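import Groth.Agent.CAlgH3.BECriterion
import Groth.Agent.HilbertBurch29.Algebra
import Groth.Agent.LocCoh.DepthLocal
import Groth.Agent.CAlgH3.Depth

/-!
# Finite free resolutions of ideals; the theorem of Hilbert and Burch
-/

set_option autoImplicit false
set_option linter.style.haveILetI false

universe u

open CAlgX

namespace Groth.Agent.HilbertBurch5

open CAlgH3.BECriterion CAlgH3.BEAux HilbertBurch29

variable {R : Type u} [CommRing R]

/-- Prepend a row to a complex: the sizes. -/
def consN (n : ℕ → ℕ) : ℕ → ℕ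
  | 0 => 1
  | i + 1 => n i

/-- Prepend a row to a complex: the matrices. -/
def consA {n : ℕ → ℕ} (g : Fin (n 0) → R) (A : (i : ℕ) → Matrix (Fin (n i)) (Fin (n (i + 1))) R) :
    (i : ℕ) → Matrix (Fin (consN n i)) (Fin (consN n (i + 1))) R
  | 0 => Matrix.of fun _ j => g j
  | i + 1 => A i

/-- The sizes of a complex with one matrix. -/
def oneN (m k : ℕ) : ℕ → ℕ
  | 0 => m
  | 1 => k
  | _ + 2 => 0

/-- A complex with one matrix. -/
def oneA {m k : ℕ} (P : Matrix (Fin m) (Fin k) R) :
    (i : ℕ) → Matrix (Fin (oneN m k i)) (Fin (oneN m k (i + 1))) R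
  | 0 => P
  | _ + 1 => 0

theorem consA_zero_mulVec {n : ℕ → ℕ} (g : Fin (n 0) → R) (A : (i : ℕ) → Matrix (Fin (n i)) (Fin (n (i + 1))) R)
    (z : Fin (n 0) → R) : (consA g A 0).mulVec z = 0 ↔ Fintype.linearCombination R g z = 0 := by
  have h : ∀ k, (consA g A 0).mulVec z k = Fintype.linearCombination R g z := fun k => by
    rw [Fintype.linearCombination_apply]
    exact (Finset.sum_congr rfl fun j _ => mul_comm (g j) (z j) :
      ∑ j, g j * z j = ∑ j, z j • g j)
  exact ⟨fun hz => (h (0 : Fin 1)).symm.trans (congrFun hz (0 : Fin 1)),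
    fun hz => funext fun k => (h k).trans hz⟩

theorem minorIdeal_row {k : ℕ} (g : Fin k → R) :
    CAlgX.minorIdeal (Matrix.of fun (_ : Fin 1) j => g j) 1 = Ideal.span (Set.range g) := by
  refine le_antisymm (Ideal.span_le.2 ?_) (Ideal.span_le.2 ?_)
  · rintro _ ⟨⟨ρ, γ⟩, rfl⟩
    exact Ideal.subset_span ⟨γ 0, by simp⟩
  · rintro _ ⟨j, rfl⟩
    exact Ideal.subset_span ⟨(fun _ => 0, fun _ => j), by simp⟩

theorem minorIdeal_eq_bot_of_col {m k r : ℕ} (A : Matrix (Fin m) (Fin k) R) (h : k < r) :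
    CAlgX.minorIdeal A r = ⊥ := by
  refine Ideal.span_eq_bot.2 ?_
  rintro _ ⟨⟨ρ, γ⟩, rfl⟩
  obtain ⟨i, j, hne, he⟩ := Fintype.exists_ne_map_eq_of_card_lt γ (by simpa using h)
  exact Matrix.det_zero_of_column_eq hne fun a => by simp [he]

theorem minorIdeal_eq_span_minors {t : ℕ} (P : Matrix (Fin (t + 1)) (Fin t) R) :
    CAlgX.minorIdeal P t = Ideal.span (Set.range (minors P)) := by
  refine le_antisymm (Ideal.span_le.2 ?_) (Ideal.span_le.2 ?_)
  · rintro _ ⟨⟨ρ, γ⟩, rfl⟩
    dsimp only
    by_cases hρ : Function.Injective ρ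
    swap
    · rw [Function.Injective] at hρ
      push Not at hρ
      obtain ⟨a, c, hac, hne⟩ := hρ
      rw [Matrix.det_zero_of_row_eq hne (funext fun x => by simp [hac])]
      exact Submodule.zero_mem _
    by_cases hγ : Function.Injective γ
    swap
    · rw [Function.Injective] at hγ
      push Not at hγ
      obtain ⟨a, c, hac, hne⟩ := hγ
      rw [Matrix.det_zero_of_column_eq hne fun x => by simp [hac]]
      exact Submodule.zero_mem _
    obtain ⟨i₀, hi₀⟩ : ∃ i₀, ∀ x, ρ x ≠ i₀ := by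
      by_contra hcon
      push Not at hcon
      have := Fintype.card_le_of_surjective ρ hcon
      simp at this
    choose σ hσ using fun x => Fin.exists_succAbove_eq (hi₀ x)
    have hσi : Function.Injective σ := fun a b h => hρ (by rw [← hσ a, ← hσ b, h])
    let σ' := Equiv.ofBijective σ (Finite.injective_iff_bijective.1 hσi)
    let γ' := Equiv.ofBijective γ (Finite.injective_iff_bijective.1 hγ)
    have e : P.submatrix ρ γ = ((P.submatrix i₀.succAbove id).submatrix σ' id).submatrix id γ' := by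
      ext a c
      simp [σ', γ', hσ]
    rw [e, Matrix.det_permute', Matrix.det_permute]
    refine Ideal.mul_mem_left _ _ (Ideal.mul_mem_left _ _ ?_)
    have hmem : minors P i₀ ∈ Ideal.span (Set.range (minors P)) := Ideal.subset_span ⟨i₀, rfl⟩
    have hu : IsUnit ((-1 : R) ^ (i₀ : ℕ)) := isUnit_one.neg.pow _
    exact (Ideal.unit_mul_mem_iff_mem _ hu).1 hmem
  · rintro _ ⟨i, rfl⟩
    exact Ideal.mul_mem_left _ _ (Ideal.subset_span ⟨(i.succAbove, id), rfl⟩)

theorem rank_of_exact_global [IsNoetherianRing R] [Nontrivial R] {n : ℕ → ℕ}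
    (A : (i : ℕ) → Matrix (Fin (n i)) (Fin (n (i + 1))) R) (e : ℕ)
    (hA : ∀ i, i + 2 ≤ e → A i * A (i + 1) = 0) (hex : IsExact A e) {i : ℕ} (hi : i < e) :
    (CAlgX.matrixRank (A i) : ℤ) = sig e n (i + 1) ∧
      ∃ a ∈ CAlgX.detIdeal (A i), IsSMulRegular R a := by
  classical
  have hdata : ∀ P ∈ associatedPrimes R R, ∀ _ : P.IsPrime, ∃ r : ℕ,
      (r : ℤ) = sig e n (i + 1) ∧ HasData (AL A P i) r := by
    intro P hP _
    obtain ⟨y, hy⟩ := (isAssociatedPrime_iff.1 hP).2
    have hy' : ∀ a : R, a ∈ P ↔ a * y = 0 := fun a => by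
      rw [hy, Submodule.mem_colon_singleton, Submodule.mem_bot, smul_eq_mul]
    refine data_of_exact (AL A P) (s := algebraMap R (Localization.AtPrime P) y) ?_ ?_ e ?_
      (exact_loc A hex) (e - (i + 1)) i (by omega)
    · intro h
      obtain ⟨c, hc⟩ := (IsLocalization.map_eq_zero_iff P.primeCompl _ y).1 h
      exact c.2 ((hy' c).2 hc)
    · intro x hx
      obtain ⟨⟨a, c⟩, hxc⟩ := IsLocalization.surj P.primeCompl x
      have ha : a ∈ P := by
        rw [← IsLocalization.AtPrime.to_map_mem_maximal_iff (Localization.AtPrime P) P, ← hxc]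
        exact Ideal.mul_mem_right _ _ hx
      refine (isUnit_loc (P := P) c.2).mul_left_eq_zero.1 ?_
      rw [mul_right_comm, hxc, ← map_mul, (hy' a).1 ha, map_zero]
    · intro k hk
      rw [← Matrix.map_mul, hA k hk]
      simp
  obtain ⟨P₀, hP₀⟩ := associatedPrimes.nonempty R R
  haveI := hP₀.isPrime
  obtain ⟨r, hr, hd₀⟩ := hdata P₀ hP₀ inferInstance
  have hz : CAlgX.minorIdeal (A i) (r + 1) = ⊥ := by
    rw [eq_bot_iff]
    intro a ha
    rw [Submodule.mem_bot]
    by_contra hne
    obtain ⟨P, hP, hle⟩ := exists_le_isAssociatedPrime_of_isNoetherianRing R a hne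
    haveI := hP.isPrime
    obtain ⟨r', hr', hd⟩ := hdata P hP inferInstance
    obtain rfl : r' = r := by omega
    have h2 := hd.2
    rw [minorIdeal_map] at h2
    have h3 : algebraMap R (Localization.AtPrime P) a = 0 := by
      simpa [h2] using Ideal.mem_map_of_mem (algebraMap R (Localization.AtPrime P)) ha
    obtain ⟨c, hc⟩ := (IsLocalization.map_eq_zero_iff P.primeCompl _ a).1 h3
    refine c.2 (hle ?_)
    rw [Submodule.mem_colon_singleton, Submodule.mem_bot, smul_eq_mul]
    exact hc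
  have hnle : ∀ P ∈ associatedPrimes R R, ¬ CAlgX.minorIdeal (A i) r ≤ P := by
    intro P hP hle
    haveI := hP.isPrime
    obtain ⟨r', hr', ⟨ρ, γ, hu⟩, -⟩ := hdata P hP inferInstance
    obtain rfl : r' = r := by omega
    have h2 : ((AL A P i).submatrix ρ γ).det ∈ (CAlgX.minorIdeal (A i) r').map (algebraMap R (Localization.AtPrime P)) := by
      rw [← minorIdeal_map]
      exact Ideal.subset_span ⟨(ρ, γ), rfl⟩
    have h3 := (Ideal.map_mono hle) h2
    rw [Localization.AtPrime.map_eq_maximalIdeal] at h3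
    exact (IsLocalRing.mem_maximalIdeal _).1 h3 hu
  have hne : CAlgX.minorIdeal (A i) r ≠ ⊥ := fun h => hnle P₀ hP₀ (h ▸ bot_le)
  have hrk := matrixRank_eq hne hz
  refine ⟨by rw [hrk]; exact hr, ?_⟩
  rw [CAlgX.detIdeal, hrk]
  by_contra hcon
  push Not at hcon
  have hsub : (CAlgX.minorIdeal (A i) r : Set R) ⊆
      ⋃ P ∈ ((associatedPrimes.finite R R).toFinset : Set (Ideal R)), (P : Set R) := by
    intro a ha
    simp only [Set.Finite.coe_toFinset]
    rw [biUnion_associatedPrimes_eq_compl_regular]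
    exact hcon a ha
  rw [Ideal.subset_union_prime (⊥ : Ideal R) (⊥ : Ideal R)
    (fun P hP _ _ => ((associatedPrimes.finite R R).mem_toFinset.1 hP).isPrime)] at hsub
  obtain ⟨P, hP, hle⟩ := hsub
  exact hnle P ((associatedPrimes.finite R R).mem_toFinset.1 hP) hle

theorem exists_regular_mem_range [IsNoetherianRing R] [Nontrivial R] (e : ℕ) (n : ℕ → ℕ)
    (g : Fin (n 0) → R) (A : (i : ℕ) → Matrix (Fin (n i)) (Fin (n (i + 1))) R)
    (hA : ∀ i, i + 2 ≤ e + 1 → consA g A i * consA g A (i + 1) = 0) (hex : IsExact (consA g A) (e + 1))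
    (hg : Ideal.span (Set.range g) ≠ ⊥) :
    (sig (e + 1) (consN n) 1 = 1) ∧ ∃ a ∈ Ideal.span (Set.range g), a ∈ nonZeroDivisors R := by
  obtain ⟨hr, a, ha, hreg⟩ := rank_of_exact_global (consA g A) (e + 1) hA hex (i := 0) (Nat.succ_pos e)
  have hrow : CAlgX.minorIdeal (consA g A 0) 1 = Ideal.span (Set.range g) := minorIdeal_row g
  have hrk : CAlgX.matrixRank (consA g A 0) = 1 := by
    refine matrixRank_eq ?_ (minorIdeal_eq_bot (consA g A 0) (by show consN n 0 < 2; simp [consN]))
    rw [hrow]; exact hg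
  rw [hrk] at hr
  refine ⟨by simpa using hr.symm, a, ?_, ?_⟩
  · rw [CAlgX.detIdeal, hrk, hrow] at ha; exact ha
  · exact isRegular_iff_mem_nonZeroDivisors.1 ⟨hreg, fun x y h => hreg (by simpa [smul_eq_mul, mul_comm] using h)⟩

theorem two_le_depth_of_regular [IsNoetherianRing R] [IsLocalRing R] (rs : List R) (hlen : rs.length = 2)
    (hmem : ∀ x ∈ rs, x ∈ IsLocalRing.maximalIdeal R) (hreg : RingTheory.Sequence.IsRegular R rs) :
    (2 : ℕ∞) ≤ _root_.LocCoh.depth R R := by
  rw [_root_.LocCoh.depth, _root_.LocCoh.idealDepth, if_neg CAlgH3.maximal_smul_top_ne_top]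
  refine le_trans ?_ (le_iSup₂ rs ⟨hreg.toIsWeaklyRegular, hmem⟩)
  rw [hlen]; rfl

theorem exists_regular_pair {J : Ideal R} (hJ : J ≠ ⊤) (h : (2 : ℕ∞) ≤ _root_.LocCoh.idealDepth J R) :
    ∃ rs : List R, rs.length = 2 ∧ (∀ x ∈ rs, x ∈ J) ∧ RingTheory.Sequence.IsRegular R rs := by
  have hJ' : J • (⊤ : Submodule R R) ≠ ⊤ := by
    rwa [smul_eq_mul, Ideal.mul_top]
  rw [_root_.LocCoh.idealDepth, if_neg hJ'] at h
  have h1 : (1 : ℕ∞) < ⨆ (rs : List R) (_ : RingTheory.Sequence.IsWeaklyRegular R rs ∧ ∀ r ∈ rs, r ∈ J),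
      (rs.length : ℕ∞) := lt_of_lt_of_le (by norm_num) h
  simp only [lt_iSup_iff] at h1
  obtain ⟨rs, ⟨hw, hmem⟩, hlen⟩ := h1
  have hlen' : 2 ≤ rs.length := by exact_mod_cast hlen
  refine ⟨rs.take 2, by simp [hlen'], fun x hx => hmem x (List.mem_of_mem_take hx), ?_, ?_⟩
  · rw [← List.take_append_drop 2 rs] at hw
    exact ((RingTheory.Sequence.isWeaklyRegular_append_iff R _ _).1 hw).1
  · intro htop
    apply hJ'
    refine eq_top_iff.2 (htop.le.trans (Submodule.smul_mono_left ?_))
    exact Ideal.span_le.2 fun x hx => hmem x (List.mem_of_mem_take hx)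

/-- The Hilbert-Burch complex is exact when the maximal minors have depth at least two. -/
theorem exact_of_depth [IsNoetherianRing R] (t : ℕ) (P : Matrix (Fin (t + 1)) (Fin t) R)
    (hdepth : (2 : ℕ∞) ≤ _root_.LocCoh.idealDepth (CAlgX.minorIdeal P t) R) (a : R) (ha : a ∈ nonZeroDivisors R) :
    LinearMap.ker P.mulVecLin = ⊥ ∧
      LinearMap.ker (Fintype.linearCombination R (fun i => a * minors P i)) = LinearMap.range P.mulVecLin := by
  rcases subsingleton_or_nontrivial R with hR | hR
  · exact ⟨Subsingleton.elim _ _, Subsingleton.elim _ _⟩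
  let g : Fin (oneN (t + 1) t 0) → R := fun i => a * minors P i
  let A := consA (n := oneN (t + 1) t) g (oneA P)
  have hareg : IsSMulRegular R a := (isRegular_iff_mem_nonZeroDivisors.2 ha).left
  have hA : ∀ i, i + 2 ≤ 2 → A i * A (i + 1) = 0 := by
    intro i hi
    obtain rfl : i = 0 := by omega
    ext r c
    show ∑ j, (a * minors P j) * P j c = 0
    rw [Finset.sum_congr rfl fun j _ => mul_assoc a (minors P j) (P j c), ← Finset.mul_sum]
    exact (congrArg (a * ·) (congrFun (minors_vecMul P) c)).trans (mul_zero a)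
  obtain ⟨x, hxJ, hx⟩ : ∃ x ∈ CAlgX.minorIdeal P t, IsSMulRegular R x := by
    by_cases htop : CAlgX.minorIdeal P t = ⊤
    · exact ⟨1, htop ▸ trivial, isRegular_one.left⟩
    · obtain ⟨rs, hlen, hmem, hreg⟩ := exists_regular_pair htop hdepth
      match rs, hlen with
      | [x, y], _ =>
        exact ⟨x, hmem x (by simp), ((RingTheory.Sequence.isWeaklyRegular_cons_iff R x [y]).1 hreg.toIsWeaklyRegular).1⟩
  have hrow : CAlgX.minorIdeal (A 0) 1 = Ideal.span (Set.range g) := minorIdeal_row g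
  have hrg : Ideal.span (Set.range g) = Ideal.span {a} * CAlgX.minorIdeal P t := by
    rw [minorIdeal_eq_span_minors, Ideal.span_mul_span', Set.singleton_mul, ← Set.range_comp]
    rfl
  have hax : a * x ∈ Ideal.span (Set.range g) := hrg ▸ Ideal.mul_mem_mul (Ideal.mem_span_singleton_self a) hxJ
  have haxr : IsSMulRegular R (a * x) := hareg.mul hx
  have hne0 : Ideal.span (Set.range g) ≠ ⊥ := fun h => by
    rw [h, Submodule.mem_bot] at hax
    rw [hax] at haxr
    exact haxr.not_zero
  have hrk0 : CAlgX.matrixRank (A 0) = 1 :=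
    matrixRank_eq (hrow ▸ hne0) (minorIdeal_eq_bot (A 0) (by show (1 : ℕ) < 2; norm_num))
  have hrk1 : CAlgX.matrixRank (A 1) = t := by
    refine matrixRank_eq ?_ (minorIdeal_eq_bot_of_col P (Nat.lt_succ_self t))
    show CAlgX.minorIdeal P t ≠ ⊥
    intro h
    rw [h, Submodule.mem_bot] at hxJ
    rw [hxJ] at hx
    exact hx.not_zero
  have hex : IsExact A 2 := by
    refine exact_of_criterion A 2 hA (fun j h1 h2 => ?_) (fun j h1 h2 => ?_)
    · rcases (show j = 1 ∨ j = 2 by omega) with rfl | rfl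
      · rw [show (1 - 1 : ℕ) = 0 from rfl, hrk0]
        simp [sig, Finset.sum_Icc_succ_top, consN, oneN]
      · rw [show (2 - 1 : ℕ) = 1 from rfl, hrk1]
        simp [sig, consN, oneN]
    · rcases (show j = 1 ∨ j = 2 by omega) with rfl | rfl
      · rw [show (1 - 1 : ℕ) = 0 from rfl, CAlgX.detIdeal, hrk0, hrow]
        by_cases htop : Ideal.span (Set.range g) = ⊤
        · exact Or.inl htop
        refine Or.inr ⟨[a * x], rfl, by simpa using hax, ?_, fun htop' => htop ?_⟩
        · exact (RingTheory.Sequence.isWeaklyRegular_cons_iff R _ _).2 ⟨haxr, .nil _ _⟩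
        · refine eq_top_iff.2 (htop'.le.trans ?_)
          rw [Ideal.ofList, smul_eq_mul, Ideal.mul_top, Ideal.span_le]
          intro y hy
          obtain rfl : y = a * x := by simpa using hy
          exact hax
      · rw [show (2 - 1 : ℕ) = 1 from rfl, CAlgX.detIdeal, hrk1]
        by_cases htop : CAlgX.minorIdeal P t = ⊤
        · exact Or.inl htop
        · exact Or.inr (exists_regular_pair htop hdepth)
  obtain ⟨h1, h2⟩ := (isExact_iff A 2 (by norm_num) hA).1 hex
  refine ⟨h1, ?_⟩
  refine Eq.trans ?_ (h2 0 le_rfl)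
  ext z
  exact (consA_zero_mulVec g (oneA P) z).symm

/-- The theorem of Hilbert and Burch. -/
theorem hilbert_burch [IsNoetherianRing R] (m n : ℕ) (P : Matrix (Fin n) (Fin m) R) (π : (Fin n → R) →ₗ[R] R)
    (hP : LinearMap.ker P.mulVecLin = ⊥) (hex : LinearMap.ker π = LinearMap.range P.mulVecLin)
    (hI : LinearMap.range π ≠ ⊥) :
    n = m + 1 ∧
      (∃ a : R, a ∈ nonZeroDivisors R ∧ LinearMap.range π = Ideal.span {a} * CAlgX.minorIdeal P m) ∧
      2 ≤ _root_.LocCoh.idealDepth (CAlgX.minorIdeal P m) R := by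
  haveI : Nontrivial R := by
    rcases subsingleton_or_nontrivial R with hR | hR
    · exact absurd (Subsingleton.elim _ _) hI
    · exact hR
  let g : Fin n → R := fun j => π (Pi.single j 1)
  have hπ : π = Fintype.linearCombination R g := by
    apply LinearMap.pi_ext'
    intro i
    ext
    simp [g, Fintype.linearCombination_apply_single]
  have hrange : LinearMap.range π = Ideal.span (Set.range g) := by
    rw [hπ, Fintype.range_linearCombination]
  let A := consA (n := oneN n m) g (oneA P)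
  have hgP : ∀ c, ∑ j, g j * P j c = 0 := fun c => by
    have : P.mulVecLin (Pi.single c 1) ∈ LinearMap.ker π := hex ▸ ⟨_, rfl⟩
    rw [LinearMap.mem_ker, hπ, Fintype.linearCombination_apply] at this
    refine (Finset.sum_congr rfl fun j _ => ?_).trans this
    simp [mul_comm]
  have hA : ∀ i, i + 2 ≤ 2 → A i * A (i + 1) = 0 := by
    intro i hi
    obtain rfl : i = 0 := by omega
    ext r c
    exact hgP c
  have hexA : IsExact A 2 := by
    refine (isExact_iff A 2 (by norm_num) hA).2 ⟨hP, fun i hi => ?_⟩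
    obtain rfl : i = 0 := by omega
    refine Eq.trans ?_ hex
    ext z
    rw [hπ]
    exact consA_zero_mulVec g (oneA P) z
  obtain ⟨hsig, b, hb, hbreg⟩ := exists_regular_mem_range 1 (oneN n m) g (oneA P) hA hexA (hrange ▸ hI)
  obtain rfl : n = m + 1 := by
    have h : sig 2 (consN (oneN n m)) 1 = (n : ℤ) - m := by
      simp [sig, Finset.sum_Icc_succ_top, consN, oneN]; ring
    rw [show (1 + 1 : ℕ) = 2 from rfl, h] at hsig
    omega
  have hdet : CAlgX.detIdeal (A 1) = CAlgX.minorIdeal P m := by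
    have hr := (rank_of_exact_global A 2 hA hexA (i := 1) (by norm_num)).1
    have : CAlgX.matrixRank (A 1) = m := by
      have h : sig 2 (consN (oneN (m + 1) m)) 2 = (m : ℤ) := by simp [sig, consN, oneN]
      replace hr := hr.trans h
      exact_mod_cast hr
    rw [CAlgX.detIdeal, this]
    rfl
  have hdepth : (2 : ℕ∞) ≤ _root_.LocCoh.idealDepth (CAlgX.minorIdeal P m) R := by
    rw [LocCoh.idealDepth_eq_iInf_depth]
    refine le_iInf₂ fun p hp => ?_
    haveI : IsNoetherianRing (Localization.AtPrime p.asIdeal) :=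
      IsLocalization.isNoetherianRing p.asIdeal.primeCompl _ inferInstance
    rw [← CAlgH3.depth_congr (IsLocalizedModule.iso p.asIdeal.primeCompl
      (Algebra.linearMap R (Localization.AtPrime p.asIdeal))
      |>.extendScalarsOfIsLocalization p.asIdeal.primeCompl (Localization.AtPrime p.asIdeal)).symm]
    have hA' : ∀ i, i + 2 ≤ 2 → AL A p.asIdeal i * AL A p.asIdeal (i + 1) = 0 := fun i hi => by
      rw [AL, AL, ← Matrix.map_mul, hA i hi]; simp
    have hexL := exact_loc A (P := p.asIdeal) hexA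
    have hmax : CAlgX.detIdeal (AL A p.asIdeal 1) ≤ IsLocalRing.maximalIdeal (Localization.AtPrime p.asIdeal) := by
      have hr := (rank_of_exact (AL A p.asIdeal) 2 hA' hexL (i := 1) (by norm_num)).1
      have hr0 := (rank_of_exact_global A 2 hA hexA (i := 1) (by norm_num)).1
      rw [CAlgX.detIdeal, show CAlgX.matrixRank (AL A p.asIdeal 1) = CAlgX.matrixRank (A 1) by omega, minorIdeal_map]
      refine (Ideal.map_mono (le_of_eq_of_le hdet hp)).trans ?_
      rw [Localization.AtPrime.map_eq_maximalIdeal]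
    rcases criterion_of_exact 2 _ _ (AL A p.asIdeal) hA' hexL 1 (by norm_num) with htop | ⟨rs, hlen, hmem, hreg⟩
    · rw [htop] at hmax
      exact absurd (top_le_iff.1 hmax) (IsLocalRing.maximalIdeal.isMaximal _).ne_top
    · exact two_le_depth_of_regular rs hlen (fun x hx => hmax (hmem x hx)) hreg
  obtain ⟨hinj, hker⟩ := exact_of_depth m P hdepth 1 (one_mem _)
  simp only [one_mul] at hker
  obtain ⟨u, hu⟩ := exists_multiplier (LinearMap.ker_eq_bot.1 hinj) hker.symm (g := g) (funext hgP)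
  have hrange' : LinearMap.range π = Ideal.span {u} * CAlgX.minorIdeal P m := by
    rw [hrange, minorIdeal_eq_span_minors, Ideal.span_mul_span', Set.singleton_mul, ← Set.range_comp]
    congr 2
    exact funext hu
  refine ⟨rfl, ⟨u, ?_, hrange'⟩, hdepth⟩
  have hb' : b ∈ Ideal.span {u} := Ideal.mul_le_right (I := CAlgX.minorIdeal P m) (by rw [mul_comm, ← hrange', hrange]; exact hb)
  obtain ⟨c, rfl⟩ := Ideal.mem_span_singleton'.1 hb'
  exact (mul_mem_nonZeroDivisors.1 hbreg).2

end Groth.Agent.HilbertBurch5
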